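import Groth.Agent.Lib.DescSS19.CxInj
import Mathlib.CategoryTheory.Abelian.Exact

/-!
# Split acyclic complexes of injectives are injective
-/

set_option autoImplicit false
set_option linter.unusedSectionVars false
set_option linter.style.haveILetI false
set_option backward.isDefEq.respectTransparency false
set_option backward.isDefEq.respectTransparency.types false
universe v u

open CategoryTheory CategoryTheory.Limits

namespace GrothLib.CxInj25

open GrothLib.DescSS19

variable {B : Type u} [Category.{v} B] [Abelian B]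

/-- Maps into a path complex are determined by their first components. -/
theorem eq_toPathCx {K : CochainComplex B ℕ} {V : ℕ → B} (φ : K ⟶ pathCx V) :
    φ = toPathCx K V (fun n => φ.f n ≫ biprod.fst) := by
  ext1 n
  refine biprod.hom_ext _ _ ?_ ?_
  · simp [toPathCx]
  · have h : φ.f n ≫ (pathCx V).d n (n + 1) = K.d n (n + 1) ≫ φ.f (n + 1) := φ.comm n (n + 1)
    rw [pathCx_d] at h
    have h' := congrArg (fun t => t ≫ biprod.fst) h
    simp at h'
    simp [toPathCx, h']

theorem comp_toPathCx {K L : CochainComplex B ℕ} {V : ℕ → B} (g : K ⟶ L)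
    (e : ∀ n, L.X n ⟶ V n) : g ≫ toPathCx L V e = toPathCx K V (fun n => g.f n ≫ e n) := by
  ext1 n
  refine biprod.hom_ext _ _ ?_ ?_
  · simp [toPathCx]
  · simp [toPathCx]

/-- A path complex of injectives is injective. -/
theorem injective_pathCx (V : ℕ → B) [∀ n, Injective (V n)] : Injective (pathCx V) := by
  constructor
  intro K L φ g hg
  haveI : ∀ n, Mono (g.f n) := fun n => inferInstance
  refine ⟨toPathCx L V (fun n => Injective.factorThru (φ.f n ≫ biprod.fst) (g.f n)), ?_⟩
  rw [comp_toPathCx]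
  simp only [Injective.comp_factorThru]
  exact (eq_toPathCx φ).symm

theorem injective_of_split (Q : CochainComplex B ℕ) (hinj : ∀ i : ℕ, Injective (Q.X i))
    (hac : ∀ i : ℕ, IsZero (Q.homology (i + 1))) (hsplit : ∀ i : ℕ, IsSplitMono (Q.iCycles i)) :
    Injective Q := by
  let r : ∀ n, Q.X n ⟶ Q.cycles n := fun n =>
    haveI := hsplit n
    retraction (Q.iCycles n)
  have hr : ∀ n, Q.iCycles n ≫ r n = 𝟙 _ := fun n =>
    haveI := hsplit n
    IsSplitMono.id (Q.iCycles n)
  haveI : ∀ n, Injective (Q.cycles n) := fun n => Retract.injective ⟨Q.iCycles n, r n, hr n⟩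
  haveI := injective_pathCx (fun n => Q.cycles n)
  have hd : ∀ n, Q.d n (n + 1) ≫ r (n + 1) = Q.toCycles n (n + 1) := fun n => by
    rw [← Q.toCycles_i n (n + 1), Category.assoc, hr, Category.comp_id]
  haveI : ∀ n, IsIso ((toPathCx Q (fun n => Q.cycles n) r).f n) := fun n => by
    let S := ShortComplex.mk (Q.iCycles n) (Q.toCycles n (n + 1)) (by
      rw [← cancel_mono (Q.iCycles (n + 1)), Category.assoc, Q.toCycles_i, Q.iCycles_d, zero_comp])
    have hS : S.Exact := by
      let S' := ShortComplex.mk (Q.iCycles n) (Q.d n (n + 1)) (Q.iCycles_d n (n + 1))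
      have hS' : S'.Exact := S'.exact_of_f_is_kernel (Q.cyclesIsKernel n (n + 1) (by simp))
      let φ : S ⟶ S' :=
        { τ₁ := 𝟙 _
          τ₂ := 𝟙 _
          τ₃ := Q.iCycles (n + 1)
          comm₁₂ := (Category.id_comp _).trans (Category.comp_id _).symm
          comm₂₃ := (Category.id_comp _).trans (Q.toCycles_i n (n + 1)).symm }
      haveI : Epi φ.τ₁ := inferInstanceAs (Epi (𝟙 _))
      haveI : IsIso φ.τ₂ := inferInstanceAs (IsIso (𝟙 _))
      haveI : Mono φ.τ₃ := inferInstanceAs (Mono (Q.iCycles (n + 1)))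
      exact (ShortComplex.exact_iff_of_epi_of_isIso_of_mono φ).2 hS'
    haveI : Epi S.g := ShortComplex.Exact.epi_f
      (S := ShortComplex.mk (Q.toCycles n (n + 1)) (Q.homologyπ (n + 1)) (Q.toCycles_comp_homologyπ n (n + 1)))
      (ShortComplex.exact_of_g_is_cokernel _ (Q.homologyIsCokernel n (n + 1) (by simp))) ((hac n).eq_of_tgt _ _)
    let sp := ShortComplex.Splitting.ofExactOfRetraction S hS (r n) (hr n) inferInstance
    have e : (toPathCx Q (fun n => Q.cycles n) r).f n = sp.isoBinaryBiproduct.hom := by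
      refine biprod.hom_ext _ _ ?_ ?_
      · simp [toPathCx, ShortComplex.Splitting.isoBinaryBiproduct, sp]
        exact (biprod.lift_fst _ _).symm
      · simp [toPathCx, ShortComplex.Splitting.isoBinaryBiproduct, sp, hd, S]
    rw [e]
    infer_instance
  haveI := HomologicalComplex.Hom.isIso_of_components (toPathCx Q (fun n => Q.cycles n) r)
  exact Injective.of_iso (asIso (toPathCx Q (fun n => Q.cycles n) r)).symm ‹_›

theorem isSplitMono_iCycles_pathCx (V : ℕ → B) (n : ℕ) : IsSplitMono ((pathCx V).iCycles n) := by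
  let K := pathCx V
  let l : V n ⟶ K.cycles n := K.liftCycles (biprod.inl : V n ⟶ V n ⊞ V (n + 1)) (n + 1) (by simp) (by
    rw [pathCx_d]
    simp)
  refine IsSplitMono.mk' ⟨(biprod.fst : V n ⊞ V (n + 1) ⟶ V n) ≫ l, ?_⟩
  rw [← cancel_mono (K.iCycles n), Category.assoc, Category.assoc, Category.id_comp, HomologicalComplex.liftCycles_i]
  have h : K.iCycles n ≫ (biprod.snd : V n ⊞ V (n + 1) ⟶ V (n + 1)) = 0 := by
    have h0 := K.iCycles_d n (n + 1)
    rw [pathCx_d] at h0
    have h1 := congrArg (fun t => t ≫ biprod.fst) h0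
    simpa using h1
  refine biprod.hom_ext _ _ ?_ ?_
  · simp [K]
  · simp [K, h]

theorem exists_mono_split [EnoughInjectives B] (A : CochainComplex B ℕ) :
    ∃ (Q : CochainComplex B ℕ) (f : A ⟶ Q), Mono f ∧ (∀ i : ℕ, Injective (Q.X i)) ∧
      (∀ i : ℕ, IsZero (Q.homology (i + 1))) ∧ ∀ i : ℕ, IsSplitMono (Q.iCycles i) :=
  ⟨envCx A, toEnvCx A, inferInstance,
    fun i => inferInstanceAs (Injective (Injective.under (A.X i) ⊞ Injective.under (A.X (i + 1)))),
    fun i => (HomologicalComplex.exactAt_iff_isZero_homology _ _).1 (exactAt_pathCx _ i),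
    isSplitMono_iCycles_pathCx _⟩

end GrothLib.CxInj25
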